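import Mathlib.Order.WellQuasiOrder
import Mathlib.Order.WellFoundedSet
import Mathlib.Data.Fintype.BigOperators
import Mathlib.Data.Fin.Tuple.Basic
import Mathlib.Algebra.BigOperators.Fin
import Mathlib.Analysis.SpecificLimits.Basic
import Mathlib.Analysis.Asymptotics.SpecificAsymptotics
import Mathlib.Order.UpperLower.Basic
import Mathlib.Tactic

/-!
Counting lattice points of a down-closed subset of `ℕ^m` in boxes and in simplices.
-/

namespace Groth.L04.Lech

open Finset Filter Topology

open scoped Classical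

variable {m : ℕ}

/-- Lattice points with all coordinates `< n`. -/
def box (m n : ℕ) : Finset (Fin m → ℕ) := Fintype.piFinset (fun _ => Finset.range n)

/-- Lattice points with coordinate sum `< n`. -/
def simplex (m n : ℕ) : Finset (Fin m → ℕ) := (box m n).filter (fun a => ∑ i, a i < n)

lemma mem_box {n : ℕ} {a : Fin m → ℕ} : a ∈ box m n ↔ ∀ i, a i < n := by
  simp [box]

lemma mem_simplex {n : ℕ} {a : Fin m → ℕ} : a ∈ simplex m n ↔ ∑ i, a i < n := by
  rw [simplex, Finset.mem_filter, mem_box, and_iff_right_iff_imp]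
  intro h i
  exact lt_of_le_of_lt (Finset.single_le_sum (fun j _ => Nat.zero_le (a j)) (Finset.mem_univ i)) h

noncomputable def gcount (D : Set (Fin m → ℕ)) (n : ℕ) : ℕ :=
  ((box m n).filter (fun a => a ∈ D)).card

noncomputable def fcount (D : Set (Fin m → ℕ)) (n : ℕ) : ℕ :=
  ((simplex m n).filter (fun a => a ∈ D)).card

lemma fcount_mono (D : Set (Fin m → ℕ)) : Monotone (fcount D) := by
  intro n n' h
  apply Finset.card_le_card
  intro a
  simp only [Finset.mem_filter, mem_simplex]
  exact fun ha => ⟨by omega, ha.2⟩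

def slice (D : Set (Fin (m + 1) → ℕ)) (j : ℕ) : Set (Fin m → ℕ) := {a | Fin.cons j a ∈ D}

lemma gcount_succ (D : Set (Fin (m + 1) → ℕ)) (n : ℕ) :
    gcount D n = ∑ j ∈ range n, gcount (slice D j) n := by
  rw [gcount]
  simp only [gcount]
  rw [← Finset.card_sigma]
  refine Finset.card_bij' (fun a _ => ⟨a 0, Fin.tail a⟩) (fun p _ => Fin.cons p.1 p.2) ?_ ?_ ?_ ?_
  · intro a ha
    simp only [Finset.mem_filter, mem_box] at ha
    simp only [Finset.mem_sigma, Finset.mem_range, Finset.mem_filter, mem_box, slice,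
      Set.mem_setOf_eq, Fin.cons_self_tail]
    exact ⟨ha.1 0, fun i => ha.1 _, ha.2⟩
  · rintro ⟨j, b⟩ hb
    simp only [Finset.mem_sigma, Finset.mem_range, Finset.mem_filter, mem_box, slice,
      Set.mem_setOf_eq] at hb
    simp only [Finset.mem_filter, mem_box]
    exact ⟨Fin.forall_fin_succ.mpr ⟨by simpa using hb.1, fun i => by simpa using hb.2.1 i⟩, hb.2.2⟩
  · intro a _
    simp
  · rintro ⟨j, b⟩ _
    simp

lemma fcount_succ (D : Set (Fin (m + 1) → ℕ)) (n : ℕ) :
    fcount D n = ∑ j ∈ range n, fcount (slice D j) (n - j) := by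
  rw [fcount]
  simp only [fcount]
  rw [← Finset.card_sigma]
  refine Finset.card_bij' (fun a _ => ⟨a 0, Fin.tail a⟩) (fun p _ => Fin.cons p.1 p.2) ?_ ?_ ?_ ?_
  · intro a ha
    simp only [Finset.mem_filter, mem_simplex, Fin.sum_univ_succ] at ha
    simp only [Finset.mem_sigma, Finset.mem_range, Finset.mem_filter, mem_simplex, slice,
      Set.mem_setOf_eq, Fin.cons_self_tail, Fin.tail]
    exact ⟨by omega, by omega, ha.2⟩
  · rintro ⟨j, b⟩ hb
    simp only [Finset.mem_sigma, Finset.mem_range, Finset.mem_filter, mem_simplex, slice,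
      Set.mem_setOf_eq] at hb
    simp only [Finset.mem_filter, mem_simplex, Fin.sum_univ_succ, Fin.cons_zero, Fin.cons_succ]
    exact ⟨by omega, hb.2.2⟩
  · intro a _
    simp
  · rintro ⟨j, b⟩ _
    simp

/-- An antitone sequence of lower sets in `ℕ^m` is eventually constant (Dickson). -/
lemma exists_stable (D : ℕ → Set (Fin m → ℕ)) (hD : ∀ j, IsLowerSet (D j)) (hanti : Antitone D) :
    ∃ J, ∀ j, J ≤ j → D j = D J := by
  by_contra h
  push Not at h
  choose φ hφle hφne using h
  have : ∀ J, ∃ a, a ∈ D J ∧ a ∉ D (φ J) := fun J =>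
    Set.exists_of_ssubset (lt_of_le_of_ne (hanti (hφle J)) (hφne J))
  choose a ha ha' using this
  let ψ : ℕ → ℕ := fun k => φ^[k] 0
  have hmono : Monotone ψ := monotone_nat_of_le_succ fun k => by
    simp only [ψ, Function.iterate_succ_apply']
    exact hφle _
  obtain ⟨i, j, hij, hle⟩ := wellQuasiOrdered_le (fun k => a (ψ k))
  apply ha' (ψ i)
  have h1 : ψ (i + 1) ≤ ψ j := hmono (by omega)
  simp only [ψ, Function.iterate_succ_apply'] at h1
  exact hanti h1 (hD _ hle (ha (ψ j)))

lemma map_finsetSum_sum {M : Type*} [AddCommMonoid M] (F : ℕ → M) (l : ℕ → Multiset ℕ) (J : ℕ) :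
    ((∑ j ∈ range J, l j).map F).sum = ∑ j ∈ range J, ((l j).map F).sum := by
  induction J with
  | zero => simp
  | succ J ih => rw [Finset.sum_range_succ, Finset.sum_range_succ, Multiset.map_add,
      Multiset.sum_add, ih]

lemma pow_succ_le_sum (d n : ℕ) :
    (n : ℝ) ^ (d + 1) ≤ (d + 1) * ∑ i ∈ range n, ((i : ℝ) + 1) ^ d := by
  induction n with
  | zero => simp
  | succ n ih =>
    rw [Finset.sum_range_succ, mul_add]
    have key : ∀ e : ℕ, ((n : ℝ) + 1) ^ (e + 1) ≤ (n : ℝ) ^ (e + 1) + (e + 1) * ((n : ℝ) + 1) ^ e := by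
      intro e
      induction e with
      | zero => simp
      | succ e ihe =>
        have hn : (0 : ℝ) ≤ n := by positivity
        have h2 : (n : ℝ) ^ (e + 1) ≤ ((n : ℝ) + 1) ^ (e + 1) :=
          pow_le_pow_left₀ hn (by linarith) _
        have := mul_le_mul_of_nonneg_left ihe (by positivity : (0 : ℝ) ≤ (n : ℝ) + 1)
        rw [pow_succ' ((n : ℝ) + 1) (e + 1), pow_succ' (n : ℝ) (e + 1)]
        push_cast
        calc ((n : ℝ) + 1) * ((n : ℝ) + 1) ^ (e + 1)
            ≤ ((n : ℝ) + 1) * ((n : ℝ) ^ (e + 1) + (e + 1) * ((n : ℝ) + 1) ^ e) := this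
          _ = (n : ℝ) * (n : ℝ) ^ (e + 1) + (n : ℝ) ^ (e + 1)
                + (e + 1) * ((n : ℝ) + 1) ^ (e + 1) := by ring
          _ ≤ _ := by nlinarith [h2]
    have := key d
    push_cast
    linarith

/-- The combinatorial shape of a lower set of `ℕ^m`. -/
theorem exists_dims : ∀ (m : ℕ) (D : Set (Fin m → ℕ)), IsLowerSet D →
    ∃ (l : Multiset ℕ) (C : ℕ), (∀ n, gcount D n ≤ (l.map (fun d => n ^ d)).sum) ∧
      (∀ n : ℕ, (l.map (fun d => (n : ℝ) ^ d / d.factorial)).sum ≤ (fcount D (n + C) : ℝ)) := by
  intro m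
  induction m with
  | zero =>
    intro D _
    by_cases h0 : (0 : Fin 0 → ℕ) ∈ D
    · refine ⟨{0}, 1, fun n => ?_, fun n => ?_⟩
      · simp only [Multiset.map_singleton, Multiset.sum_singleton, pow_zero, gcount]
        exact le_trans (Finset.card_filter_le _ _) (by simp [box])
      · simp only [Multiset.map_singleton, Multiset.sum_singleton, pow_zero, Nat.factorial_zero,
          Nat.cast_one, div_one, fcount]
        rw [Nat.one_le_cast]
        exact Finset.card_pos.mpr ⟨0, Finset.mem_filter.mpr ⟨by simp [mem_simplex], h0⟩⟩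
    · refine ⟨0, 0, fun n => ?_, fun n => by simp⟩
      simp only [Multiset.map_zero, Multiset.sum_zero, nonpos_iff_eq_zero, gcount,
        Finset.card_eq_zero, Finset.filter_eq_empty_iff]
      intro a _
      rwa [Subsingleton.elim a 0]
  | succ m ih =>
    intro D hD
    have hslice : ∀ j, IsLowerSet (slice D j) := fun j a b hba ha =>
      hD (Fin.cons_le_cons.mpr ⟨le_rfl, hba⟩) ha
    have hanti : Antitone (slice D) := fun i j hij a ha =>
      hD (Fin.cons_le_cons.mpr ⟨hij, le_rfl⟩) ha
    obtain ⟨J, hJ⟩ := exists_stable _ hslice hanti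
    choose l C hg hf using fun j => ih (slice D j) (hslice j)
    refine ⟨(∑ j ∈ range J, l j) + (l J).map (· + 1), J + ∑ j ∈ range (J + 1), C j, ?_, ?_⟩
    · intro n
      rw [gcount_succ, Multiset.map_add, Multiset.sum_add, map_finsetSum_sum, Multiset.map_map]
      calc ∑ j ∈ range n, gcount (slice D j) n
          ≤ ∑ j ∈ range (J + n), gcount (slice D j) n :=
            Finset.sum_le_sum_of_subset (Finset.range_mono (by omega))
        _ = ∑ j ∈ range J, gcount (slice D j) n + n * gcount (slice D J) n := by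
            rw [Finset.sum_range_add]
            congr 1
            rw [Finset.sum_congr rfl (fun i _ => by rw [hJ (J + i) (by omega)]), Finset.sum_const,
              Finset.card_range, smul_eq_mul]
        _ ≤ ∑ j ∈ range J, ((l j).map (fun d => n ^ d)).sum
              + n * ((l J).map (fun d => n ^ d)).sum :=
            add_le_add (Finset.sum_le_sum fun j _ => hg j n) (Nat.mul_le_mul le_rfl (hg J n))
        _ = _ := by
            rw [← Multiset.sum_map_mul_left]
            congr 2
            exact Multiset.map_congr rfl fun d _ => (pow_succ' n d).symm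
    · intro n
      set C' := ∑ j ∈ range (J + 1), C j with hC'
      have hCj : ∀ j ≤ J, C j ≤ C' := fun j hj =>
        Finset.single_le_sum (fun i _ => Nat.zero_le (C i)) (Finset.mem_range.mpr (by omega))
      rw [Multiset.map_add, Multiset.sum_add, map_finsetSum_sum, Multiset.map_map, fcount_succ,
        Nat.cast_sum]
      have h1 : ∑ j ∈ range J, ((l j).map (fun d => (n : ℝ) ^ d / d.factorial)).sum ≤
          ∑ j ∈ range J, (fcount (slice D j) (n + (J + C') - j) : ℝ) := by
        refine Finset.sum_le_sum fun j hj => le_trans (hf j n) ?_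
        rw [Finset.mem_range] at hj
        exact_mod_cast fcount_mono _ (by have := hCj j hj.le; omega)
      have h2 : ∀ s : Multiset ℕ,
          (s.map (fun d => (n : ℝ) ^ (d + 1) / (d + 1).factorial)).sum ≤
            ∑ i ∈ range n, (s.map (fun d => ((i : ℝ) + 1) ^ d / d.factorial)).sum := by
        intro s
        induction s using Multiset.induction with
        | empty => simp
        | cons d s ihs =>
          simp only [Multiset.map_cons, Multiset.sum_cons, Finset.sum_add_distrib]
          refine add_le_add ?_ ihs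
          rw [← Finset.sum_div, Nat.factorial_succ, Nat.cast_mul,
            div_le_div_iff₀ (by positivity) (by positivity)]
          have := pow_succ_le_sum d n
          push_cast
          nlinarith [this, (by positivity : (0 : ℝ) < (d.factorial : ℝ))]
      have h3 : ∑ i ∈ range n, ((l J).map (fun d => ((i : ℝ) + 1) ^ d / d.factorial)).sum ≤
          ∑ i ∈ range n, (fcount (slice D (J + i)) (n + (J + C') - (J + i)) : ℝ) := by
        rw [← Finset.sum_range_reflect]
        refine Finset.sum_le_sum fun i hi => ?_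
        rw [Finset.mem_range] at hi
        rw [hJ (J + i) (by omega)]
        have := hf J (n - i)
        have e : ((n - i : ℕ) : ℝ) = ((n - 1 - i : ℕ) : ℝ) + 1 := by
          have : n - i = (n - 1 - i) + 1 := by omega
          rw [this]; push_cast; ring
        rw [e] at this
        refine le_trans this ?_
        exact_mod_cast fcount_mono _ (by have := hCj J le_rfl; omega)
      calc _ ≤ ∑ j ∈ range J, (fcount (slice D j) (n + (J + C') - j) : ℝ)
            + ∑ i ∈ range n, (fcount (slice D (J + i)) (n + (J + C') - (J + i)) : ℝ) :=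
            add_le_add h1 (le_trans (h2 (l J)) h3)
        _ = ∑ j ∈ range (J + n), (fcount (slice D j) (n + (J + C') - j) : ℝ) := by
            rw [Finset.sum_range_add]
        _ ≤ _ := Finset.sum_le_sum_of_subset_of_nonneg (Finset.range_mono (by omega))
            (fun _ _ _ => Nat.cast_nonneg _)

lemma tendsto_div_pow_count (r : ℕ) : ∀ s : Multiset ℕ, (∀ d ∈ s, d ≤ r) →
    Tendsto (fun n : ℕ => (s.map (fun d => (n : ℝ) ^ d)).sum / (n : ℝ) ^ r) atTop
      (𝓝 (s.count r : ℝ)) := by
  intro s
  induction s using Multiset.induction with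
  | empty => intro _; simp
  | cons d s ih =>
    intro hs
    have ih' := ih fun e he => hs e (Multiset.mem_cons_of_mem he)
    have hd : d ≤ r := hs d (Multiset.mem_cons_self _ _)
    simp only [Multiset.map_cons, Multiset.sum_cons, add_div, Multiset.count_cons, Nat.cast_add]
    rw [add_comm (Multiset.count r s : ℝ)]
    refine Tendsto.add ?_ ih'
    rcases hd.eq_or_lt with rfl | hlt
    · simp only [if_true, Nat.cast_one]
      refine tendsto_const_nhds.congr' ?_
      filter_upwards [eventually_ge_atTop 1] with n hn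
      rw [div_self]
      positivity
    · rw [if_neg (by omega), Nat.cast_zero]
      exact (tendsto_pow_div_pow_atTop_zero hlt).comp tendsto_natCast_atTop_atTop

lemma count_mul_le (r : ℕ) (n : ℕ) : ∀ s : Multiset ℕ,
    (s.count r : ℝ) * ((n : ℝ) ^ r / r.factorial) ≤
      (s.map (fun d => (n : ℝ) ^ d / d.factorial)).sum := by
  intro s
  induction s using Multiset.induction with
  | empty => simp
  | cons d s ih =>
    simp only [Multiset.map_cons, Multiset.sum_cons, Multiset.count_cons, Nat.cast_add]
    rw [add_mul, add_comm]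
    refine add_le_add ?_ ih
    split_ifs with h
    · subst h; simp
    · simp only [Nat.cast_zero, zero_mul]; positivity

/-- For a lower set whose simplex count has normalised limit `e`, the box count is asymptotically
at most `e * n ^ r`. -/
theorem box_le_of_simplex {D : Set (Fin m → ℕ)} (hD : IsLowerSet D) (r : ℕ) {e x : ℝ} {c : ℕ}
    (L : ℕ → ℕ)
    (he : Tendsto (fun n : ℕ => (r.factorial : ℝ) * (fcount D n : ℝ) / (n : ℝ) ^ r) atTop (𝓝 e))
    (hL : ∀ᶠ n in atTop, L n ≤ c * gcount D n)
    (hx : Tendsto (fun n : ℕ => (r.factorial : ℝ) * (L n : ℝ) / (n : ℝ) ^ r) atTop (𝓝 x)) :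
    x ≤ (r.factorial : ℝ) * e * c := by
  obtain ⟨l, C, hg, hf⟩ := exists_dims m D hD
  have he' : Tendsto (fun n : ℕ => (r.factorial : ℝ) * (fcount D (n + C) : ℝ) /
      ((n : ℝ) + C) ^ r) atTop (𝓝 e) := by
    have := he.comp (tendsto_add_atTop_nat C)
    simpa [Function.comp_def] using this
  have hrf : (0 : ℝ) < r.factorial := by positivity
  have hle : ∀ d ∈ l, d ≤ r := by
    intro d hd
    by_contra hlt
    push Not at hlt
    have hev : ∀ᶠ n : ℕ in atTop,
        (n : ℝ) * ((r.factorial : ℝ) / (d.factorial * 2 ^ r)) ≤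
          (r.factorial : ℝ) * (fcount D (n + C) : ℝ) / ((n : ℝ) + C) ^ r := by
      filter_upwards [eventually_ge_atTop C, eventually_ge_atTop 1] with n hnC hn1
      have hn : (1 : ℝ) ≤ n := by exact_mod_cast hn1
      have h1 : (n : ℝ) ^ d / d.factorial ≤ (fcount D (n + C) : ℝ) :=
        le_trans (Multiset.single_le_sum (s := l.map (fun d => (n : ℝ) ^ d / d.factorial)) (by
          intro y hy
          obtain ⟨k, _, rfl⟩ := Multiset.mem_map.mp hy
          positivity) _ (Multiset.mem_map.mpr ⟨d, hd, rfl⟩)) (hf n)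
      have h2 : ((n : ℝ) + C) ^ r ≤ 2 ^ r * (n : ℝ) ^ r := by
        rw [← mul_pow]
        refine pow_le_pow_left₀ (by positivity) ?_ r
        have : (C : ℝ) ≤ n := by exact_mod_cast hnC
        linarith
      have h3 : (n : ℝ) ^ (r + 1) ≤ (n : ℝ) ^ d := pow_le_pow_right₀ hn hlt
      rw [le_div_iff₀ (by positivity)]
      calc (n : ℝ) * ((r.factorial : ℝ) / (d.factorial * 2 ^ r)) * ((n : ℝ) + C) ^ r
          ≤ (n : ℝ) * ((r.factorial : ℝ) / (d.factorial * 2 ^ r)) * (2 ^ r * (n : ℝ) ^ r) := by
            gcongr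
        _ = (r.factorial : ℝ) * ((n : ℝ) ^ (r + 1) / d.factorial) := by field_simp; ring
        _ ≤ _ := by gcongr; exact le_trans (by gcongr) h1
    have hup : Tendsto (fun n : ℕ => (n : ℝ) * ((r.factorial : ℝ) / (d.factorial * 2 ^ r)))
        atTop atTop := tendsto_natCast_atTop_atTop.atTop_mul_const (by positivity)
    exact not_tendsto_nhds_of_tendsto_atTop (tendsto_atTop_mono' _ hev hup) e he'
  have hP : (l.count r : ℝ) ≤ e := by
    have h1 : Tendsto (fun n : ℕ => (l.count r : ℝ) * ((n : ℝ) / ((n : ℝ) + C)) ^ r) atTop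
        (𝓝 ((l.count r : ℝ) * 1 ^ r)) :=
      ((tendsto_natCast_div_add_atTop (C : ℝ)).pow r).const_mul _
    rw [one_pow, mul_one] at h1
    refine le_of_tendsto_of_tendsto h1 he' ?_
    filter_upwards [eventually_ge_atTop 1] with n hn
    have hpos : (0 : ℝ) < (n : ℝ) + C := by positivity
    rw [div_pow, ← mul_div_assoc]
    refine div_le_div_of_nonneg_right ?_ (by positivity)
    calc (l.count r : ℝ) * (n : ℝ) ^ r
        = (r.factorial : ℝ) * ((l.count r : ℝ) * ((n : ℝ) ^ r / r.factorial)) := by field_simp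
      _ ≤ _ := mul_le_mul_of_nonneg_left (le_trans (count_mul_le r n l) (hf n)) hrf.le
  have hlim := (tendsto_div_pow_count r l hle).const_mul ((r.factorial : ℝ) * c)
  refine le_trans (le_of_tendsto_of_tendsto hx hlim ?_) ?_
  · filter_upwards [hL] with n hn
    rw [← mul_div_assoc]
    refine div_le_div_of_nonneg_right ?_ (by positivity)
    rw [mul_assoc]
    refine mul_le_mul_of_nonneg_left ?_ hrf.le
    have h := le_trans hn (Nat.mul_le_mul le_rfl (hg n))
    calc (L n : ℝ) ≤ ((c * (l.map (fun d => n ^ d)).sum : ℕ) : ℝ) := Nat.cast_le.mpr h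
      _ = _ := by
        push_cast
        simp [Multiset.map_map, Function.comp_def]
  · rw [mul_right_comm _ e]
    gcongr

end Groth.L04.Lech
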