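import Mathlib.RingTheory.Length
import Mathlib.RingTheory.Ideal.Operations
import Mathlib.RingTheory.Ideal.Quotient.Operations
import Mathlib.RingTheory.LocalRing.MaximalIdeal.Basic
import Mathlib.RingTheory.SimpleModule.Basic
import Mathlib.Data.Prod.Lex
import Mathlib.Order.PiLex
import Mathlib.Algebra.Order.Group.PiLex
import Mathlib.Algebra.Order.Monoid.Prod
import Groth.Agent.L04.Lech.DownSet

/-!
The length of `O ⧸ I` as a number of standard exponents, for a monomial order on exponents in a
finite generating family of the maximal ideal.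
-/

namespace Groth.L04.Lech

open Finset

open scoped Classical

universe u

variable {O : Type u} [CommRing O] {m : ℕ} (x : Fin m → O)

/-- Degree-lexicographic key of an exponent. -/
def key (a : Fin m → ℕ) : ℕ ×ₗ Lex (Fin m → ℕ) := toLex (∑ i, a i, toLex a)

lemma key_injective : Function.Injective (key (m := m)) := by
  intro a b h
  simpa [key] using congr_arg Prod.snd (toLex.injective h)

lemma key_add (a b : Fin m → ℕ) : key (a + b) = key a + key b := by
  simp [key, ← toLex_add, Finset.sum_add_distrib]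

lemma key_lt_of_deg_lt {a b : Fin m → ℕ} (h : ∑ i, a i < ∑ i, b i) : key a < key b := by
  rw [key, key, Prod.Lex.lt_iff]
  exact Or.inl h

lemma deg_le_of_key_le {a b : Fin m → ℕ} (h : key a ≤ key b) : ∑ i, a i ≤ ∑ i, b i := by
  by_contra hlt
  exact absurd (key_lt_of_deg_lt (not_le.mp hlt)) (not_lt.mpr h)

def mon (a : Fin m → ℕ) : O := ∏ i, x i ^ a i

lemma mon_zero : mon x 0 = 1 := by simp [mon]

lemma mon_add (a b : Fin m → ℕ) : mon x (a + b) = mon x a * mon x b := by
  simp [mon, pow_add, Finset.prod_mul_distrib]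

/-- The ideal generated by monomials with exponent strictly after `a`. -/
def W (a : Fin m → ℕ) : Ideal O := Ideal.span (mon x '' {b | key a < key b})

/-- The ideal generated by monomials with exponent not before `a`. -/
def W' (a : Fin m → ℕ) : Ideal O := Ideal.span (mon x '' {b | key a ≤ key b})

lemma W_le_W' (a : Fin m → ℕ) : W x a ≤ W' x a :=
  Ideal.span_mono (Set.image_mono fun _ hb => le_of_lt (α := ℕ ×ₗ Lex (Fin m → ℕ)) hb)

lemma mon_mem_W' (a : Fin m → ℕ) : mon x a ∈ W' x a :=
  Ideal.subset_span ⟨a, Set.mem_setOf_eq ▸ le_rfl, rfl⟩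

lemma mul_mem_W {a b : Fin m → ℕ} {s t : O} (hs : s ∈ W x a) (ht : t ∈ W' x b) :
    s * t ∈ W x (a + b) := by
  have : W x a * W' x b ≤ W x (a + b) := by
    rw [W, W', Ideal.span_mul_span', W, Ideal.span_le]
    rintro _ ⟨_, ⟨c, hc, rfl⟩, _, ⟨d, hd, rfl⟩, rfl⟩
    refine Ideal.subset_span ⟨c + d, ?_, mon_add x c d⟩
    show key (a + b) < key (c + d)
    rw [key_add, key_add]
    exact add_lt_add_of_lt_of_le hc hd
  exact this (Ideal.mul_mem_mul hs ht)

/-- `a` is a standard exponent for `I`. -/
def IsStd (I : Ideal O) (a : Fin m → ℕ) : Prop := mon x a ∉ I ⊔ W x a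

lemma isLowerSet_isStd (I : Ideal O) : IsLowerSet {a | IsStd x I a} := by
  intro a b hba (ha : mon x a ∉ _) (hb : mon x b ∈ _)
  apply ha
  have e : a = b + (a - b) := funext fun i => (Nat.add_sub_cancel' (hba i)).symm
  obtain ⟨i, hi, p, hp, hip⟩ := Submodule.mem_sup.mp hb
  rw [e, mon_add, ← hip, add_mul]
  exact Submodule.add_mem_sup (I.mul_mem_right _ hi) (mul_mem_W x hp (mon_mem_W' x _))

lemma isStd_mono {I J : Ideal O} (h : I ≤ J) {a : Fin m → ℕ} (ha : IsStd x J a) : IsStd x I a :=
  fun h' => ha (sup_le_sup_right h _ h')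

lemma mon_nsmul_mem (I : Ideal O) {q : Fin m → ℕ} (hq : ¬ IsStd x I q) :
    ∀ n : ℕ, mon x (n • q) ∈ I ^ n ⊔ W x (n • q) := by
  obtain ⟨i, hi, p, hp, hip⟩ := Submodule.mem_sup.mp (not_not.mp hq)
  have hi' : i ∈ W' x q := by
    have : i = mon x q - p := by rw [← hip]; ring
    rw [this]
    exact sub_mem (mon_mem_W' x q) (W_le_W' x q hp)
  intro n
  induction n with
  | zero => simp
  | succ n ih =>
    obtain ⟨iₙ, hiₙ, pₙ, hpₙ, hn⟩ := Submodule.mem_sup.mp ih
    have hiₙ' : iₙ ∈ W' x (n • q) := by
      have : iₙ = mon x (n • q) - pₙ := by rw [← hn]; ring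
      rw [this]
      exact sub_mem (mon_mem_W' x _) (W_le_W' x _ hpₙ)
    rw [succ_nsmul, mon_add, ← hn, ← hip, add_mul, pow_succ]
    rw [mul_add, add_assoc]
    refine Submodule.add_mem_sup (Ideal.mul_mem_mul hiₙ hi) (add_mem ?_ ?_)
    · have := mul_mem_W x hp hiₙ'
      rwa [add_comm q, mul_comm p] at this
    · exact mul_mem_W x hpₙ (hip ▸ mon_mem_W' x q)

lemma mon_mem_pow {M : Ideal O} (hx : ∀ i, x i ∈ M) (a : Fin m → ℕ) :
    mon x a ∈ M ^ (∑ i, a i) := by
  rw [← Finset.prod_pow_eq_pow_sum]
  exact Ideal.prod_mem_prod fun i _ => Ideal.pow_mem_pow (hx i) _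

lemma pow_le_span_deg {M : Ideal O} (hx : Ideal.span (Set.range x) = M) (N : ℕ) :
    M ^ N ≤ Ideal.span (mon x '' {b | N ≤ ∑ i, b i}) := by
  induction N with
  | zero =>
    rw [pow_zero, Ideal.one_eq_top, top_le_iff, Ideal.eq_top_iff_one]
    exact Ideal.subset_span ⟨0, Nat.zero_le _, mon_zero x⟩
  | succ N ih =>
    rw [pow_succ]
    refine le_trans (Ideal.mul_mono ih hx.ge) ?_
    rw [Ideal.span_mul_span', Ideal.span_le]
    rintro _ ⟨_, ⟨c, hc, rfl⟩, _, ⟨i, rfl⟩, rfl⟩
    refine Ideal.subset_span ⟨c + Pi.single i 1, ?_, ?_⟩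
    · simp only [Set.mem_setOf_eq, Pi.add_apply, Finset.sum_add_distrib, Finset.sum_pi_single',
        Finset.mem_univ, if_true]
      simp only [Set.mem_setOf_eq] at hc
      omega
    · rw [mon_add]
      congr 1
      simp [mon, Pi.single_apply, pow_ite]

section Local

variable [IsLocalRing O] (hx : Ideal.span (Set.range x) = IsLocalRing.maximalIdeal O)

include hx

lemma mem_max (i : Fin m) : x i ∈ IsLocalRing.maximalIdeal O :=
  hx ▸ Ideal.subset_span ⟨i, rfl⟩

/-- One monomial adds exactly one or zero to the length. -/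
lemma length_step (J : Ideal O) (t : O) (ht : ∀ s ∈ IsLocalRing.maximalIdeal O, s * t ∈ J) :
    Module.length O (O ⧸ J) =
      (if t ∈ J then 0 else 1) + Module.length O (O ⧸ (J ⊔ Ideal.span {t})) := by
  split_ifs with h
  · rw [sup_eq_left.mpr ((Ideal.span_singleton_le_iff_mem _).mpr h), zero_add]
  · let f : (O ⧸ IsLocalRing.maximalIdeal O) →ₗ[O] O ⧸ J :=
      Submodule.liftQ (IsLocalRing.maximalIdeal O) (LinearMap.toSpanSingleton O _ (Submodule.Quotient.mk t))
        (fun s hs => by
          rw [LinearMap.mem_ker, LinearMap.toSpanSingleton_apply, ← Submodule.Quotient.mk_smul,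
            Submodule.Quotient.mk_eq_zero]
          exact ht s hs)
    let g : (O ⧸ J) →ₗ[O] O ⧸ (J ⊔ Ideal.span {t}) := Submodule.factor le_sup_left
    have hsimple : IsSimpleModule O (O ⧸ IsLocalRing.maximalIdeal O) :=
      isSimpleModule_iff_isCoatom.mpr (Ideal.IsMaximal.out)
    have hf : Function.Injective f := by
      refine (LinearMap.injective_or_eq_zero f).resolve_right ?_
      intro h0
      apply h
      have := LinearMap.congr_fun h0 (Submodule.Quotient.mk (1 : O))
      simp only [f, Submodule.liftQ_apply, LinearMap.toSpanSingleton_apply, one_smul,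
        LinearMap.zero_apply] at this
      exact (Submodule.Quotient.mk_eq_zero _).mp this
    have hex : Function.Exact f g := by
      rw [LinearMap.exact_iff]
      ext y
      obtain ⟨y, rfl⟩ := Submodule.Quotient.mk_surjective _ y
      rw [LinearMap.mem_ker, LinearMap.mem_range,
        show g (Submodule.Quotient.mk y) = Submodule.Quotient.mk y from rfl,
        Submodule.Quotient.mk_eq_zero, Submodule.mem_sup]
      constructor
      · rintro ⟨j, hj, s, hs, rfl⟩
        obtain ⟨c, rfl⟩ := Ideal.mem_span_singleton'.mp hs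
        refine ⟨Submodule.Quotient.mk c, ?_⟩
        simp only [f, Submodule.liftQ_apply, LinearMap.toSpanSingleton_apply,
          ← Submodule.Quotient.mk_smul, smul_eq_mul]
        rw [Submodule.Quotient.eq]
        simpa using J.neg_mem hj
      · rintro ⟨c, hc⟩
        obtain ⟨c, rfl⟩ := Submodule.Quotient.mk_surjective _ c
        simp only [f, Submodule.liftQ_apply, LinearMap.toSpanSingleton_apply,
          ← Submodule.Quotient.mk_smul, smul_eq_mul] at hc
        refine ⟨y - c * t, ?_, c * t, Ideal.mem_span_singleton'.mpr ⟨c, rfl⟩, by ring⟩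
        rw [← Submodule.Quotient.eq, hc]
    rw [Module.length_eq_add_of_exact f g hf (Submodule.factor_surjective _) hex,
      Module.length_eq_one_iff.mpr hsimple]

omit hx in
lemma span_mon_insert {s : Finset (Fin m → ℕ)} {a : Fin m → ℕ} (ha : a ∈ s) :
    Ideal.span (mon x '' {b | b ∉ s.erase a}) =
      Ideal.span (mon x '' {b | b ∉ s}) ⊔ Ideal.span {mon x a} := by
  rw [← Ideal.span_union, Set.union_singleton, ← Set.image_insert_eq]
  congr 2
  ext b
  simp only [Finset.mem_erase, Set.mem_setOf_eq, Set.mem_insert_iff, not_and_or, not_not]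

lemma length_quotient_sup_eq (I : Ideal O) : ∀ s : Finset (Fin m → ℕ),
    (∀ a ∈ s, ∀ b, key b ≤ key a → b ∈ s) →
    Module.length O (O ⧸ (I ⊔ Ideal.span (mon x '' {b | b ∉ s}))) =
      ((s.filter (fun a => IsStd x I a)).card : ℕ∞) := by
  intro s
  induction hn : s.card using Nat.strong_induction_on generalizing s with
  | _ n ih =>
    intro hinit
    rcases s.eq_empty_or_nonempty with rfl | hne
    · have : (1 : O) ∈ I ⊔ Ideal.span (mon x '' {b | b ∉ (∅ : Finset (Fin m → ℕ))}) :=
        Ideal.mem_sup_right (Ideal.subset_span ⟨0, by simp, mon_zero x⟩)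
      rw [(Ideal.eq_top_iff_one _).mpr this]
      simp [Module.length_eq_zero_iff]
    obtain ⟨a, ha, hmax⟩ := s.exists_max_image key hne
    have hW : Ideal.span (mon x '' {b | b ∉ s}) = W x a := by
      rw [W]
      congr 2
      ext b
      simp only [Set.mem_setOf_eq]
      constructor
      · intro hb
        exact not_le.mp fun hle => hb (hinit a ha b hle)
      · intro hb hbs
        exact not_le.mpr hb (hmax b hbs)
    have hinit' : ∀ a' ∈ s.erase a, ∀ b, key b ≤ key a' → b ∈ s.erase a := by
      intro a' ha' b hb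
      rw [Finset.mem_erase] at ha' ⊢
      refine ⟨?_, hinit a' ha'.2 b hb⟩
      rintro rfl
      exact ha'.1 (key_injective (le_antisymm (hmax a' ha'.2) hb))
    have hih := ih (s.erase a).card (hn ▸ Finset.card_erase_lt_of_mem ha) _ rfl hinit'
    rw [span_mon_insert x ha, ← sup_assoc] at hih
    rw [length_step (x := x) hx _ (mon x a) ?_, hih]
    · rw [hW]
      conv_rhs => rw [← Finset.insert_erase ha, Finset.filter_insert]
      by_cases hstd : IsStd x I a
      · rw [if_neg hstd, if_pos hstd, Finset.card_insert_of_notMem (by simp), Nat.cast_add,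
          Nat.cast_one, add_comm]
      · rw [if_pos (not_not.mp hstd), if_neg hstd, zero_add]
    · intro t ht
      rw [← hx] at ht
      rw [hW]
      refine Ideal.mem_sup_right ?_
      refine Submodule.span_induction ?_ ?_ ?_ ?_ ht
      · rintro _ ⟨i, rfl⟩
        refine Ideal.subset_span ⟨Pi.single i 1 + a, ?_, ?_⟩
        · apply key_lt_of_deg_lt
          simp [Finset.sum_add_distrib]
        · rw [mon_add]
          congr 1
          simp [mon, Pi.single_apply, pow_ite]
      · simp
      · intro u v _ _ hu hv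
        rw [add_mul]
        exact add_mem hu hv
      · intro c u _ hu
        rw [smul_eq_mul, mul_assoc]
        exact Ideal.mul_mem_left _ c hu

lemma simplex_initial (N : ℕ) : ∀ a ∈ simplex m N, ∀ b, key b ≤ key a → b ∈ simplex m N := by
  intro a ha b hb
  rw [mem_simplex] at ha ⊢
  have := deg_le_of_key_le hb
  omega

/-- Length of `O ⧸ I` for an ideal containing a power of the maximal ideal. -/
theorem length_quotient_eq {I : Ideal O} {N : ℕ} (hN : IsLocalRing.maximalIdeal O ^ N ≤ I) :
    (Module.length O (O ⧸ I)).toNat = ((simplex m N).filter (fun a => IsStd x I a)).card := by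
  have h := length_quotient_sup_eq x hx I (simplex m N) (simplex_initial x hx N)
  have hle : Ideal.span (mon x '' {b | b ∉ simplex m N}) ≤ I := by
    rw [Ideal.span_le]
    rintro _ ⟨b, hb, rfl⟩
    simp only [Set.mem_setOf_eq, mem_simplex, not_lt] at hb
    exact hN (Ideal.pow_le_pow_right hb (mon_mem_pow x (mem_max x hx) b))
  rw [sup_eq_left.mpr hle] at h
  rw [h, ENat.toNat_natCast]

lemma deg_lt_of_isStd {I : Ideal O} {N : ℕ} (hN : IsLocalRing.maximalIdeal O ^ N ≤ I)
    {a : Fin m → ℕ} (ha : IsStd x I a) : ∑ i, a i < N := by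
  by_contra h
  push Not at h
  exact ha (Ideal.mem_sup_left (hN (Ideal.pow_le_pow_right h (mon_mem_pow x (mem_max x hx) a))))

/-- Lengths of quotients by powers of the maximal ideal count standard exponents of `⊥`. -/
theorem length_quotient_maximalIdeal_pow (n : ℕ) :
    (Module.length O (O ⧸ IsLocalRing.maximalIdeal O ^ n)).toNat =
      fcount {a | IsStd x (⊥ : Ideal O) a} n := by
  rw [length_quotient_eq x hx le_rfl, fcount]
  congr 1
  refine Finset.filter_congr fun a ha => ?_
  rw [mem_simplex] at ha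
  show _ ↔ IsStd x ⊥ a
  refine ⟨isStd_mono x bot_le, fun h h' => h ?_⟩
  rw [bot_sup_eq]
  refine (sup_le ?_ le_rfl : IsLocalRing.maximalIdeal O ^ n ⊔ W x a ≤ W x a) h'
  refine le_trans (pow_le_span_deg x hx n) (Ideal.span_mono (Set.image_mono ?_))
  intro b (hb : n ≤ ∑ i, b i)
  exact key_lt_of_deg_lt (by omega)

/-- The standard exponents of `I ^ n` split into a standard exponent of `I` and a box remainder. -/
theorem length_pow_le {I : Ideal O} {N : ℕ} (hN : IsLocalRing.maximalIdeal O ^ N ≤ I) {n : ℕ}
    (hn : 1 ≤ n) :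
    (Module.length O (O ⧸ I ^ n)).toNat ≤
      (Module.length O (O ⧸ I)).toNat * gcount {a | IsStd x (⊥ : Ideal O) a} n := by
  have hN' : IsLocalRing.maximalIdeal O ^ (N * n) ≤ I ^ n := by
    rw [pow_mul]; exact Ideal.pow_right_mono hN n
  rw [length_quotient_eq x hx hN', length_quotient_eq x hx hN, gcount, ← Finset.card_product]
  refine Finset.card_le_card_of_injOn (fun a => ((fun i => a i / n), (fun i => a i % n))) ?_ ?_
  · intro a ha
    simp only [Finset.coe_filter, Set.mem_setOf_eq] at ha
    have hq : IsStd x I (fun i => a i / n) := by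
      by_contra hq
      have h1 := mon_nsmul_mem x I hq n
      have h2 : ¬ IsStd x (I ^ n) (n • fun i => a i / n) := not_not.mpr h1
      refine h2 (isLowerSet_isStd x (I ^ n) ?_ ha.2)
      intro i
      simpa [mul_comm] using Nat.div_mul_le_self (a i) n
    have hr : IsStd x ⊥ (fun i => a i % n) :=
      isLowerSet_isStd x ⊥ (fun i => Nat.mod_le (a i) n) (isStd_mono x bot_le ha.2)
    simp only [Finset.coe_product, Set.mem_prod, Finset.coe_filter, Set.mem_setOf_eq, mem_simplex,
      mem_box]
    exact ⟨⟨deg_lt_of_isStd x hx hN hq, hq⟩, fun i => Nat.mod_lt _ hn, hr⟩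
  · intro a _ b _ hab
    simp only [Prod.mk.injEq, funext_iff] at hab
    funext i
    rw [← Nat.div_add_mod (a i) n, hab.1 i, hab.2 i, Nat.div_add_mod]

end Local

end Groth.L04.Lech
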